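import Cfsg.Agent.H199.AbMon
import Cfsg.Agent.H968.Tor.FiFour
import Cfsg.Agent.H468.PW.Th
import Cfsg.Agent.H533.T5.Tools
import Cfsg.Agent.H241.NHMonE

/-!
# S2443, row M: elements commuting with an even element of order 3 (helper537)

* `even_of_quotient` : lifting evenness of a centralizer through a central subgroup of odd prime order;
* `even_of_three` : `x` of order 7 commuting with `y` of order 3, `y` commuting with a conjugate of `z`: `|C(x)|` is even.
-/

set_option autoImplicit false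
set_option maxRecDepth 100000

namespace Cfsg.Agent.H537.OreM

open Cfsg Cfsg.Agent.MonsterX Cfsg.Agent.MonsterX.InstData Cfsg.Agent.MonsterX.MainPack Cfsg.Agent.MonsterU
open Cfsg.Agent.MonsterP Cfsg.Agent.MonsterN Cfsg.Agent.LThreeMB
open Cfsg.Agent.MonsterX.MainBasic Cfsg.Agent.MonsterX.MainSimple Cfsg.Agent.MonsterX.Model
open Cfsg.Agent.MonsterU.Lam2 Cfsg.Agent.MonsterU.TwoCls
open Cfsg.Agent.BpSpor.MBigModel Cfsg.Agent.H199.NSmMon
open Cfsg.Spor (Co1)
open Subgroup (centralizer zpowers mem_centralizer_singleton_iff)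

section abs

variable {D : Type*} [Group D]

/-- `Z` central of odd order: centralizers of even order lift -/
theorem even_of_quotient {Z : Subgroup D} [Z.Normal] (hZc : ∀ z ∈ Z, ∀ g : D, g * z = z * g)
    (hZ : Odd (Nat.card ↥Z)) {x : D}
    (h : 2 ∣ Nat.card ↥(centralizer ({(QuotientGroup.mk' Z x : D ⧸ Z)} : Set (D ⧸ Z)))) :
    2 ∣ Nat.card ↥(centralizer ({x} : Set D)) := by
  classical
  let E : Subgroup D := (centralizer ({(QuotientGroup.mk' Z x : D ⧸ Z)} : Set (D ⧸ Z))).comap (QuotientGroup.mk' Z)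
  have hE : ∀ e : ↥E, (e : D) * x * (e : D)⁻¹ * x⁻¹ ∈ Z := by
    intro e
    have h1 := mem_centralizer_singleton_iff.1 (Subgroup.mem_comap.1 e.2)
    rw [← QuotientGroup.eq_one_iff]
    change QuotientGroup.mk' Z ((e : D) * x * (e : D)⁻¹ * x⁻¹) = 1
    rw [map_mul, map_mul, map_mul, map_inv, map_inv, h1]
    group
  let φ : ↥E →* ↥Z := MonoidHom.mk' (fun e => ⟨(e : D) * x * (e : D)⁻¹ * x⁻¹, hE e⟩) (by
    intro a b
    apply Subtype.ext
    change ((a : D) * b) * x * ((a : D) * b)⁻¹ * x⁻¹ =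
      ((a : D) * x * (a : D)⁻¹ * x⁻¹) * ((b : D) * x * (b : D)⁻¹ * x⁻¹)
    have h1 := hZc _ (hE b) a
    have h2 := hZc _ (hE b) ((a : D) * x * (a : D)⁻¹ * x⁻¹)
    calc ((a : D) * b) * x * ((a : D) * b)⁻¹ * x⁻¹
        = ((a : D) * ((b : D) * x * (b : D)⁻¹ * x⁻¹)) * x * (a : D)⁻¹ * x⁻¹ := by group
      _ = ((b : D) * x * (b : D)⁻¹ * x⁻¹) * ((a : D) * x * (a : D)⁻¹ * x⁻¹) := by rw [h1]; group
      _ = _ := h2.symm)
  have hk : φ.ker.map E.subtype ≤ centralizer ({x} : Set D) := by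
    rintro _ ⟨e, he, rfl⟩
    rw [mem_centralizer_singleton_iff]
    have h1 : (e : D) * x * (e : D)⁻¹ * x⁻¹ = 1 := congrArg Subtype.val (show φ e = 1 from he)
    rw [mul_inv_eq_one, mul_inv_eq_iff_eq_mul] at h1
    exact h1
  have h1 : Nat.card ↥φ.ker ∣ Nat.card ↥(centralizer ({x} : Set D)) := by
    rw [← Subgroup.card_map_of_injective (K := φ.ker) E.subtype_injective]
    exact Subgroup.card_dvd_of_le hk
  have h2 : Nat.card ↥φ.ker * Nat.card ↥φ.range = Nat.card ↥E := by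
    rw [← φ.ker.card_mul_index, Subgroup.index_ker]
  have h3 : Nat.card ↥φ.range ∣ Nat.card ↥Z := Subgroup.card_subgroup_dvd_card _
  have h4 : 2 ∣ Nat.card ↥E := by
    refine h.trans ?_
    have h5 : E.map (QuotientGroup.mk' Z) = centralizer ({(QuotientGroup.mk' Z x : D ⧸ Z)} : Set (D ⧸ Z)) :=
      Subgroup.map_comap_eq_self_of_surjective (QuotientGroup.mk'_surjective Z) _
    rw [← h5]
    exact Subgroup.card_map_dvd _ _
  rw [← h2] at h4
  rcases (Nat.Prime.dvd_mul Nat.prime_two).1 h4 with h5 | h5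
  · exact h5.trans h1
  · exfalso
    rw [← Nat.not_even_iff_odd, even_iff_two_dvd] at hZ
    exact hZ (h5.trans h3)

end abs

/-- through a normal subgroup `⟨y⟩` of `C(y)` -/
theorem even_of_XX {x y : MG} (hy : Odd (orderOf y)) (hxy : x * y = y * x)
    (h : 2 ∣ Nat.card ↥(centralizer ({(QuotientGroup.mk' (Zx y) ⟨x, mem_centralizer_singleton_iff.2 hxy⟩ : XX y)} :
      Set (XX y)))) : 2 ∣ Nat.card ↥(centralizer ({x} : Set MG)) := by
  have := finite
  have hZc : ∀ z ∈ Zx y, ∀ g : ↥(centralizer ({y} : Set MG)), g * z = z * g := by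
    rintro _ ⟨i, rfl⟩ g
    refine ((show Commute g (LThreeMB.self y) from ?_).zpow_right i).eq
    exact Subtype.ext (mem_centralizer_singleton_iff.1 g.2)
  have h1 := even_of_quotient (Z := Zx y) hZc (by
    rw [Zx, Nat.card_zpowers, LThreeMB.self, Subgroup.orderOf_mk]
    exact hy) h
  refine h1.trans ?_
  have h2 : (centralizer ({(⟨x, mem_centralizer_singleton_iff.2 hxy⟩ : ↥(centralizer ({y} : Set MG)))} :
      Set ↥(centralizer ({y} : Set MG)))).map (centralizer ({y} : Set MG)).subtype ≤ centralizer ({x} : Set MG) := by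
    rintro _ ⟨g, hg, rfl⟩
    exact mem_centralizer_singleton_iff.2 (congrArg Subtype.val (mem_centralizer_singleton_iff.1 hg))
  rw [← Subgroup.card_map_of_injective (centralizer ({y} : Set MG)).subtype_injective]
  exact Subgroup.card_dvd_of_le h2

/-- if `XX y ≅ A` and all the elements of order `p` of `A` have centralizers of even order -/
theorem even_of_iso {A : Type*} [Group A] {x y : MG} {p : ℕ} (hp : p.Prime) (hx : orderOf x = p) (hy : Odd (orderOf y))
    (hyp : ¬ p ∣ orderOf y) (hxy : x * y = y * x) (e : XX y ≃* A)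
    (hA : ∀ a : A, orderOf a = p → 2 ∣ Nat.card ↥(centralizer ({a} : Set A))) :
    2 ∣ Nat.card ↥(centralizer ({x} : Set MG)) := by
  have := finite
  refine even_of_XX hy hxy ?_
  obtain ⟨u, hu⟩ : ∃ u, u = (QuotientGroup.mk' (Zx y) ⟨x, mem_centralizer_singleton_iff.2 hxy⟩ : XX y) := ⟨_, rfl⟩
  rw [← hu]
  have hup : u ^ p = 1 := by
    rw [hu, ← map_pow]
    have h1 : (⟨x, mem_centralizer_singleton_iff.2 hxy⟩ : ↥(centralizer ({y} : Set MG))) ^ p = 1 :=
      Subtype.ext (by rw [← hx]; exact pow_orderOf_eq_one x)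
    rw [h1, map_one]
  have hu1 : u ≠ 1 := by
    intro h1
    rw [hu] at h1
    have h2 : (⟨x, mem_centralizer_singleton_iff.2 hxy⟩ : ↥(centralizer ({y} : Set MG))) ∈ Zx y :=
      (QuotientGroup.eq_one_iff _).1 h1
    have h3 := orderOf_dvd_natCard (⟨_, h2⟩ : ↥(Zx y))
    rw [Subgroup.orderOf_mk, Subgroup.orderOf_mk, hx, Zx, Nat.card_zpowers, LThreeMB.self, Subgroup.orderOf_mk] at h3
    exact hyp h3
  have : Fact p.Prime := ⟨hp⟩
  have huo : orderOf u = p := orderOf_eq_prime hup hu1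
  have h1 := hA (e u) (by rw [MulEquiv.orderOf_eq, huo])
  have h2 : Nat.card ↥(centralizer ({u} : Set (XX y))) = Nat.card ↥(centralizer ({e u} : Set A)) := by
    refine Nat.card_congr ⟨fun a => ⟨e a, ?_⟩, fun a => ⟨e.symm a, ?_⟩, fun a => Subtype.ext (e.symm_apply_apply _),
      fun a => Subtype.ext (e.apply_symm_apply _)⟩
    · rw [mem_centralizer_singleton_iff, ← map_mul, mem_centralizer_singleton_iff.1 a.2, map_mul]
    · rw [mem_centralizer_singleton_iff]
      apply e.injective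
      rw [map_mul, map_mul, e.apply_symm_apply]
      exact mem_centralizer_singleton_iff.1 a.2
  rw [h2]
  exact h1

/-- **fixed rank 0, order 3**: elements of prime order `p ≥ 5` of `C(y)` -/
theorem even_of_zero {y : centralizer ({zz} : Set MG)} (hy : orderOf y = 3) (hfr : fr (pi y) = 1) {x : MG} {p : ℕ}
    (hp : p.Prime) (hp5 : 5 ≤ p) (hx : orderOf x = p) (hxy : x * (y : MG) = y * x) :
    2 ∣ Nat.card ↥(centralizer ({x} : Set MG)) := by
  have := finite
  have hpf : Fact p.Prime := ⟨hp⟩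
  set C := centralizer ({(y : MG)} : Set MG) with hC
  let K : Subgroup ↥C := centralizer ({zD y} : Set ↥C)
  obtain ⟨e⟩ := CoOneFin.coOne.suz (pi y) (orderOf_pi chart hy) hfr
  have hc : Nat.card (XX (pi y)) = 448345497600 := by rw [Nat.card_congr e.toEquiv, Cfsg.Agent.S1694.result.2]
  have hy3 : y ^ 3 = 1 := by rw [← hy, pow_orderOf_eq_one]
  have hsurj : Function.Surjective (toXX pi y) := MFive.toXX_surj chart Nat.prime_three (by decide) hy3
  have h1 : 448345497600 ∣ Nat.card ↥K := by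
    rw [← hc]
    exact Subgroup.card_dvd_of_surjective _ hsurj
  have h2 := H199.AbMon.three_zero' hy hfr
  have h3 : K.index ∣ 3 ^ 13 * 2 := by
    obtain ⟨m, hm⟩ := h1
    have h4 := K.card_mul_index
    rw [hm] at h4
    have h5 : 448345497600 * (m * K.index) ∣ 448345497600 * (3 ^ 13 * 2) := by
      have : 448345497600 * (3 ^ 13 * 2) = 3 ^ 13 * (448345497600 * 2) := by norm_num
      rw [this, ← mul_assoc, h4]
      exact h2
    exact (dvd_mul_left _ _).trans (Nat.dvd_of_mul_dvd_mul_left (by norm_num) h5)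
  have hidx : ¬ p ∣ K.index := by
    intro h4
    rcases (Nat.Prime.dvd_mul hp).1 (h4.trans h3) with h5 | h5
    · have h6 := (Nat.prime_dvd_prime_iff_eq hp Nat.prime_three).1 (hp.dvd_of_dvd_pow h5)
      omega
    · have h6 := (Nat.prime_dvd_prime_iff_eq hp Nat.prime_two).1 h5
      omega
  obtain ⟨g, hg⟩ := H533.T5.exists_conj_mem_of_index hidx (x := (⟨x, mem_centralizer_singleton_iff.2 hxy⟩ : ↥C))
    (by rw [Subgroup.orderOf_mk, hx])
  have h4 := congrArg Subtype.val (mem_centralizer_singleton_iff.1 hg)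
  have h5 : ((g : MG) * x * (g : MG)⁻¹) * zz = zz * ((g : MG) * x * (g : MG)⁻¹) := h4
  have h6 : x * ((g : MG)⁻¹ * zz * g) = ((g : MG)⁻¹ * zz * g) * x := by
    calc x * ((g : MG)⁻¹ * zz * g) = (g : MG)⁻¹ * (((g : MG) * x * (g : MG)⁻¹) * zz) * g := by group
      _ = (g : MG)⁻¹ * (zz * ((g : MG) * x * (g : MG)⁻¹)) * g := by rw [h5]
      _ = _ := by group
  have h7 : orderOf ((g : MG)⁻¹ * zz * g) = 2 := by
    have h8 := MulEquiv.orderOf_eq (MulAut.conj (g : MG)⁻¹) zz
    rw [MulAut.conj_apply, inv_inv] at h8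
    rw [h8]
    exact orderOf_zz
  rw [← h7, ← Subgroup.orderOf_mk _ (mem_centralizer_singleton_iff.2 h6.symm)]
  exact orderOf_dvd_natCard _

/-- **elements of order 3 of `C(z)`** -/
theorem even_of_three_in {p : ℕ} (hp : p.Prime) (hp5 : 5 ≤ p)
    (hTh : ∀ a : Spor.Th, orderOf a = p → 2 ∣ Nat.card ↥(centralizer ({a} : Set Spor.Th)))
    (hFi : ∀ a : Spor.Fi24', orderOf a = p → 2 ∣ Nat.card ↥(centralizer ({a} : Set Spor.Fi24')))
    {y : centralizer ({zz} : Set MG)} (hy : orderOf y = 3) {x : MG} (hx : orderOf x = p)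
    (hxy : x * (y : MG) = y * x) : 2 ∣ Nat.card ↥(centralizer ({x} : Set MG)) := by
  have := finite
  have := simple
  have I := CoOneFin.coOne
  have htr := KPair.trNe KDone.lft LThreeB.Row.cent (LThreeMBTr.traceNe KDone.lft LThreeMBTr.TensK.tens)
  have hyo : orderOf (y : MG) = 3 := by rw [Subgroup.orderOf_coe, hy]
  have hp3 : ¬ p ∣ orderOf (y : MG) := by
    rw [hyo]
    intro h
    have := Nat.le_of_dvd (by norm_num) h
    omega
  rcases I.ranks (pi y) (orderOf_pi chart hy) with h1 | h1 | h1 | h1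
  · exact even_of_zero hy h1 hp hp5 hx hxy
  · obtain ⟨x₀, u, g, hx₀, hfr₀, huz, hux, hne, hg⟩ :=
      KPair.hasPair KDone.lft LThreeB.Row.cent PreUniq.MonRow.second COct.octPair
    obtain ⟨k, hk⟩ := conj_six chart htr I.ranks I.six
      (fun x hx h2 => ⟨(good_of_inputs chart I hx h2 : Good.{0} _).simple, (good_of_inputs chart I hx h2 : Good.{0} _).nc⟩)
      hx₀ hfr₀ huz hux hne hg hy h1
    have h2 := even_of_zero hx₀ hfr₀ hp hp5 (x := k * x * k⁻¹) (by
      have := MulEquiv.orderOf_eq (MulAut.conj k) x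
      rw [MulAut.conj_apply] at this
      rw [this, hx]) (by
      rw [← hk]
      calc k * x * k⁻¹ * (k * (y : MG) * k⁻¹) = k * (x * y) * k⁻¹ := by group
        _ = k * (y * x) * k⁻¹ := by rw [hxy]
        _ = _ := by group)
    rwa [BpSpor.card_cent_of_conj (rfl : k * x * k⁻¹ = k * x * k⁻¹)] at h2
  · obtain ⟨e⟩ := LThreeB.isoTh_of_inputs chart I hy h1
    exact even_of_iso hp hx (by rw [hyo]; decide) hp3 hxy e hTh
  · obtain ⟨e⟩ := LThreeB.isoFi_of_inputs chart I hy h1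
    exact even_of_iso hp hx (by rw [hyo]; decide) hp3 hxy e hFi

/-- **elements of order 3 commuting with a conjugate of `z`** -/
theorem even_of_three' {p : ℕ} (hp : p.Prime) (hp5 : 5 ≤ p)
    (hTh : ∀ a : Spor.Th, orderOf a = p → 2 ∣ Nat.card ↥(centralizer ({a} : Set Spor.Th)))
    (hFi : ∀ a : Spor.Fi24', orderOf a = p → 2 ∣ Nat.card ↥(centralizer ({a} : Set Spor.Fi24')))
    {y : MG} (hy : orderOf y = 3) (he : Ev y) {x : MG} (hx : orderOf x = p)
    (hxy : x * y = y * x) : 2 ∣ Nat.card ↥(centralizer ({x} : Set MG)) := by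
  obtain ⟨g, hg⟩ := he
  have h1 : (g⁻¹ * y * g) * zz = zz * (g⁻¹ * y * g) := by
    calc (g⁻¹ * y * g) * zz = g⁻¹ * (y * (g * zz * g⁻¹)) * g := by group
      _ = g⁻¹ * ((g * zz * g⁻¹) * y) * g := by rw [hg]
      _ = zz * (g⁻¹ * y * g) := by group
  have h2 := even_of_three_in hp hp5 hTh hFi (y := ⟨g⁻¹ * y * g, mem_centralizer_singleton_iff.2 h1⟩) (by
      rw [Subgroup.orderOf_mk, ← hy]
      have := MulEquiv.orderOf_eq (MulAut.conj g⁻¹) y
      rwa [MulAut.conj_apply, inv_inv] at this) (x := g⁻¹ * x * g) (by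
      have := MulEquiv.orderOf_eq (MulAut.conj g⁻¹) x
      rw [MulAut.conj_apply, inv_inv] at this
      rw [this, hx]) (by
      change g⁻¹ * x * g * (g⁻¹ * y * g) = g⁻¹ * y * g * (g⁻¹ * x * g)
      calc g⁻¹ * x * g * (g⁻¹ * y * g) = g⁻¹ * (x * y) * g := by group
        _ = g⁻¹ * (y * x) * g := by rw [hxy]
        _ = _ := by group)
  rwa [BpSpor.card_cent_of_conj (show g⁻¹ * x * (g⁻¹)⁻¹ = g⁻¹ * x * g by rw [inv_inv])] at h2

/-- `3 ^ 8` does not divide `|C(x)|`, if `|C(x)|` is odd -/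
theorem not_three_of {p : ℕ} (hp : p.Prime) (hp5 : 5 ≤ p)
    (hTh : ∀ a : Spor.Th, orderOf a = p → 2 ∣ Nat.card ↥(centralizer ({a} : Set Spor.Th)))
    (hFi : ∀ a : Spor.Fi24', orderOf a = p → 2 ∣ Nat.card ↥(centralizer ({a} : Set Spor.Fi24')))
    {x : MG} (hx : orderOf x = p) (ho : ¬ 2 ∣ Nat.card ↥(centralizer ({x} : Set MG))) :
    ¬ 3 ^ 8 ∣ Nat.card ↥(centralizer ({x} : Set MG)) := by
  have hfin := finite
  intro hd
  obtain ⟨t, ht, -, hct, -⟩ := Cfsg.Agent.H241.Mon.exists_cov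
  obtain ⟨g, y, hy, hyx, hyz⟩ := Cfsg.Agent.H199.NSmAbs.exists_common (G := MG) (p := 3) (n := 20) (a := 8) (b := 13)
    (by norm_num) (by rw [card_M]; norm_num) hd (T := centralizer ({t} : Set MG)) (by rw [hct]; norm_num)
    (by norm_num)
  have hev : Ev y := by
    apply ev_of_even hy
    rw [Nat.not_odd_iff_even, even_iff_two_dvd]
    have h1 := mem_centralizer_singleton_iff.1 hyz
    have h2 : orderOf (g⁻¹ * t * g) = 2 := by
      rw [← ht]
      have := MulEquiv.orderOf_eq (MulAut.conj g⁻¹) t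
      rwa [MulAut.conj_apply, inv_inv] at this
    have h3 : g⁻¹ * t * g * y = y * (g⁻¹ * t * g) := by
      calc g⁻¹ * t * g * y = g⁻¹ * (t * (g * y * g⁻¹)) * g := by group
        _ = g⁻¹ * ((g * y * g⁻¹) * t) * g := by rw [h1]
        _ = y * (g⁻¹ * t * g) := by group
    rw [← h2, ← Subgroup.orderOf_mk _ (mem_centralizer_singleton_iff.2 h3)]
    exact orderOf_dvd_natCard _
  exact ho (even_of_three' hp hp5 hTh hFi hy hev hx (mem_centralizer_singleton_iff.1 hyx).symm)

theorem even_th_seven (a : Spor.Th) (ha : orderOf a = 7) : 2 ∣ Nat.card ↥(centralizer ({a} : Set Spor.Th)) := by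
  rw [Cfsg.Agent.H468.PW.ThP.card_cent ha]
  norm_num

theorem even_fi_seven (a : Spor.Fi24') (ha : orderOf a = 7) :
    2 ∣ Nat.card ↥(centralizer ({a} : Set Spor.Fi24')) := by
  obtain ⟨t, ht, hta⟩ := Cfsg.Agent.H968.Tor.seven24 ha
  rw [← ht, ← Subgroup.orderOf_mk _ (mem_centralizer_singleton_iff.2 hta)]
  exact orderOf_dvd_natCard _

/-- **order 7, not even** -/
theorem not_three_seven {x : MG} (hx : orderOf x = 7) (ho : ¬ 2 ∣ Nat.card ↥(centralizer ({x} : Set MG))) :
    ¬ 3 ^ 8 ∣ Nat.card ↥(centralizer ({x} : Set MG)) :=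
  not_three_of (by norm_num) (by norm_num) even_th_seven even_fi_seven hx ho

end Cfsg.Agent.H537.OreM
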