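import Cfsg.Agent.H537.OreM.SevOdd
import Cfsg.Agent.H609.Inv.MSeven
import Cfsg.Agent.H58.Mon.FiveB
import Cfsg.Agent.H465.PiBSMon
import Cfsg.Agent.BpSevenCo.Conj

/-!
# S2443, row M: `|C(x)|`, `x` of order 7 commuting with a conjugate of `z` (helper537)
-/

set_option autoImplicit false
set_option maxRecDepth 100000

namespace Cfsg.Agent.H537.OreM

open Cfsg Cfsg.Agent.MonsterX Cfsg.Agent.MonsterX.InstData Cfsg.Agent.MonsterX.MainPack Cfsg.Agent.MonsterU
open Cfsg.Agent.MonsterP Cfsg.Agent.MonsterN Cfsg.Agent.LThreeMB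
open Cfsg.Agent.MonsterX.MainBasic Cfsg.Agent.MonsterX.MainSimple Cfsg.Agent.MonsterX.Model
open Cfsg.Agent.MonsterU.Lam2 Cfsg.Agent.MonsterU.TwoCls
open Cfsg.Agent.BpSpor.MBigModel Cfsg.Agent.H199.NSmMon
open Cfsg.Spor (Co1)
open Subgroup (centralizer zpowers mem_centralizer_singleton_iff)
open Cfsg.Agent.H961.SevLift

/-! ### `7 ^ 5` and even elements of order 3 and 5 -/

theorem three_in_seven {x : centralizer ({zz} : Set MG)} (hx : orderOf x = 3) :
    ¬ 7 ^ 5 ∣ Nat.card ↥(centralizer ({(x : MG)} : Set MG)) := by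
  have := finite
  have := simple
  have I := CoOneFin.coOne
  have htr := KPair.trNe KDone.lft LThreeB.Row.cent (LThreeMBTr.traceNe KDone.lft LThreeMBTr.TensK.tens)
  have hxo : orderOf (x : MG) = 3 := by rw [Subgroup.orderOf_coe, hx]
  have h0 : ¬ 7 ^ 5 ∣ 3 ^ 13 * (448345497600 * 2) := by norm_num
  rcases I.ranks (pi x) (orderOf_pi chart hx) with h1 | h1 | h1 | h1
  · exact H199.AbMon.not_dvd_of_dvd h0 (H199.AbMon.three_zero' hx h1)
  · obtain ⟨x₀, u, g, hx₀, hfr₀, huz, hux, hne, hg⟩ :=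
      KPair.hasPair KDone.lft LThreeB.Row.cent PreUniq.MonRow.second COct.octPair
    obtain ⟨k, hk⟩ := conj_six chart htr I.ranks I.six
      (fun x hx h2 => ⟨(good_of_inputs chart I hx h2 : Good.{0} _).simple, (good_of_inputs chart I hx h2 : Good.{0} _).nc⟩)
      hx₀ hfr₀ huz hux hne hg hx h1
    rw [← BpSpor.card_cent_of_conj hk]
    exact H199.AbMon.not_dvd_of_dvd h0 (H199.AbMon.three_zero' hx₀ hfr₀)
  · obtain ⟨e⟩ := LThreeB.isoTh_of_inputs chart I hx h1
    rw [card_XX, hxo, Nat.card_congr e.toEquiv, Cfsg.Agent.S1700.result.2]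
    norm_num
  · obtain ⟨e⟩ := LThreeB.isoFi_of_inputs chart I hx h1
    rw [card_XX, hxo, Nat.card_congr e.toEquiv, Cfsg.Agent.S1698.result.2]
    norm_num

theorem three_seven {x : MG} (hx : orderOf x = 3) (he : Ev x) :
    ¬ 7 ^ 5 ∣ Nat.card ↥(centralizer ({x} : Set MG)) := by
  obtain ⟨x', hx', hc⟩ := exists_in hx he
  rw [← hc]
  exact three_in_seven hx'

theorem five_seven {x : MG} (hx : orderOf x = 5) (he : Ev x) :
    ¬ 7 ^ 5 ∣ Nat.card ↥(centralizer ({x} : Set MG)) := by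
  rcases H58.MonFiveB.five hx he with h | h
  · rw [h]
    norm_num
  · intro h1
    have h2 := h1.trans h
    norm_num at h2

/-- a large 3-subgroup contains an even element of order 3 -/
theorem exists_three {N : Subgroup MG} (hd : 3 ^ 8 ∣ Nat.card ↥N) : ∃ y ∈ N, orderOf y = 3 ∧ Ev y := by
  have hfin := finite
  obtain ⟨t, ht, -, hct, -⟩ := Cfsg.Agent.H241.Mon.exists_cov
  obtain ⟨g, y, hy, hyx, hyz⟩ := Cfsg.Agent.H199.NSmAbs.exists_common (G := MG) (p := 3) (n := 20) (a := 8) (b := 13)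
    (by norm_num) (by rw [card_M]; norm_num) hd (T := centralizer ({t} : Set MG)) (by rw [hct]; norm_num)
    (by norm_num)
  refine ⟨y, hyx, hy, ?_⟩
  apply ev_of_even hy
  rw [Nat.not_odd_iff_even, even_iff_two_dvd]
  have h1 := mem_centralizer_singleton_iff.1 hyz
  have h2 : orderOf (g⁻¹ * t * g) = 2 := by
    rw [← ht]
    have := MulEquiv.orderOf_eq (MulAut.conj g⁻¹) t
    rwa [MulAut.conj_apply, inv_inv] at this
  have h3 : g⁻¹ * t * g * y = y * (g⁻¹ * t * g) := by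
    calc g⁻¹ * t * g * y = g⁻¹ * (t * (g * y * g⁻¹)) * g := by group
      _ = g⁻¹ * ((g * y * g⁻¹) * t) * g := by rw [h1]
      _ = y * (g⁻¹ * t * g) := by group
  rw [← h2, ← Subgroup.orderOf_mk _ (mem_centralizer_singleton_iff.2 h3)]
  exact orderOf_dvd_natCard _

/-- even elements through `C(z)` -/
theorem exists_ev_of {p n a b : ℕ} (hp : p.Prime) (hn : ¬ p ^ (n + 1) ∣ Nat.card MG)
    (hb : p ^ b ∣ Nat.card ↥(centralizer ({zz} : Set MG))) (hab : n < a + b) {N : Subgroup MG}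
    (hd : p ^ a ∣ Nat.card ↥N) : ∃ y ∈ N, orderOf y = p ∧ Ev y := by
  have hfin := finite
  obtain ⟨g, y, hy, hyx, hyz⟩ := Cfsg.Agent.H199.NSmAbs.exists_common (G := MG) (p := p) (n := n) (a := a) (b := b)
    hp hn hd (T := centralizer ({zz} : Set MG)) hb hab
  refine ⟨y, hyx, hy, g⁻¹, ?_⟩
  have h1 := mem_centralizer_singleton_iff.1 hyz
  calc g⁻¹ * zz * g⁻¹⁻¹ * y = g⁻¹ * (zz * (g * y * g⁻¹)) * g := by group
    _ = g⁻¹ * ((g * y * g⁻¹) * zz) * g := by rw [h1]
    _ = y * (g⁻¹ * zz * g⁻¹⁻¹) := by group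

/-- a large 5-subgroup contains an even element of order 5 -/
theorem exists_five {N : Subgroup MG} (hd : 5 ^ 6 ∣ Nat.card ↥N) : ∃ y ∈ N, orderOf y = 5 ∧ Ev y :=
  exists_ev_of (n := 9) (a := 6) (b := 4) (by norm_num) (by rw [card_M]; norm_num) (by rw [card_cent_z]; norm_num)
    (by norm_num) hd

/-- `11 ^ 2` does not divide `|C(x)|` -/
theorem not_121 {x : MG} (hx : orderOf x = 7) : ¬ 11 ^ 2 ∣ Nat.card ↥(centralizer ({x} : Set MG)) := by
  intro hd
  have hfin := finite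
  obtain ⟨y, hyN, hy, he⟩ := exists_ev_of (p := 11) (n := 2) (a := 2) (b := 1) (by norm_num)
    (by rw [card_M]; norm_num) (by rw [card_cent_z]; norm_num) (by norm_num) hd
  have h1 := H199.AbMon.eleven hy he
  have h2 : orderOf x ∣ Nat.card ↥(centralizer ({y} : Set MG)) := by
    rw [← Subgroup.orderOf_mk x (mem_centralizer_singleton_iff.2 (mem_centralizer_singleton_iff.1 hyN).symm)]
    exact orderOf_dvd_natCard _
  rw [h1, hx] at h2
  norm_num at h2

/-! ### The 7-central element -/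

/-- a power generating the same subgroup -/
theorem card_pow {G : Type*} [Group G] {w : G} {m : ℕ} (hw : orderOf w = 7) (hm : w ^ m ≠ 1) :
    Nat.card ↥(centralizer ({w ^ m} : Set G)) = Nat.card ↥(centralizer ({w} : Set G)) := by
  have h7 : Fact (Nat.Prime 7) := ⟨by norm_num⟩
  have h1 : orderOf (w ^ m) = 7 := by
    refine orderOf_eq_prime ?_ hm
    rw [← pow_mul, mul_comm, pow_mul, ← hw, pow_orderOf_eq_one, one_pow]
  have h2 : zpowers (w ^ m) = zpowers w := by
    have hf : Finite ↥(zpowers w) := Nat.finite_of_card_ne_zero (by rw [Nat.card_zpowers, hw]; norm_num)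
    exact Subgroup.eq_of_le_of_card_ge (Subgroup.zpowers_le.2 (Subgroup.npow_mem_zpowers w m))
      (by rw [Nat.card_zpowers, Nat.card_zpowers, h1, hw])
  have h3 : centralizer ({w ^ m} : Set G) = centralizer ({w} : Set G) := by
    ext g
    rw [mem_centralizer_singleton_iff, mem_centralizer_singleton_iff]
    constructor
    · intro h
      have h4 : w ∈ zpowers (w ^ m) := by rw [h2]; exact Subgroup.mem_zpowers w
      obtain ⟨i, hi⟩ := Subgroup.mem_zpowers_iff.1 h4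
      rw [← hi]
      exact ((show Commute g (w ^ m) from h).zpow_right i).eq
    · intro h
      exact ((show Commute g w from h).pow_right m).eq
  rw [h3]

/-- **The centralizer of the 7-central elements.** -/
theorem card_w : ∃ w : centralizer ({zz} : Set MG), orderOf w = 7 ∧ fr (pi w) = 1 ∧
    Nat.card ↥(centralizer ({(w : MG)} : Set MG)) ∣ 3 ^ 7 * 5 ^ 5 * 7 ^ 5 * 11 * 5040 := by
  have hfin := finite
  have h7 : Nat.Prime 7 := by norm_num
  have h7' : Fact (Nat.Prime 7) := ⟨h7⟩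
  obtain ⟨y, v, s', a, c, w, hL, h5⟩ := H961.SevM.exists_data'
  obtain ⟨Q, hQ, -⟩ := H961.SevM.exists_qq hL h5
  have hwo' : orderOf (w : MG) = 7 := orderOf_eq_prime hL.w7 hL.w1
  have hwo : orderOf w = 7 := by rw [← Subgroup.orderOf_coe, hwo']
  have hfr : fr (pi w) = 1 := H961.SevM.fr_eq_one hL h5 hwo
  refine ⟨w, hwo, hfr, ?_⟩
  have hx7 : w ^ 7 = 1 := by rw [← hwo, pow_orderOf_eq_one]
  obtain ⟨hs, -, hc⟩ := Cfsg.Agent.H961.SevX.xx_facts (MFive.orderOf_pi chart h7 (by decide) hwo) hfr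
  have hns : ¬ Group.IsSolvable (XX (pi w)) := not_solvable hs hc (by norm_num) (by norm_num)
  have hz := BpRankZero.Seven.only_zD KDone.lft LThreeB.Row.cent hx7 hfr
  obtain ⟨N, hN⟩ := BpSpor.M5.exists_rad chart (by norm_num) hwo hfr
    (fun d hd hc => by
      have h1 := hz ⟨d * zz * d⁻¹, mem_centralizer_singleton_iff.2 (by
        have h2 : (w : MG) * zz = zz * w := mem_centralizer_singleton_iff.1 w.2
        calc d * zz * d⁻¹ * (w : MG) = d * zz * (d⁻¹ * (w * d)) * d⁻¹ := by group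
          _ = d * zz * (d⁻¹ * (d * w)) * d⁻¹ := by rw [hd]
          _ = d * (zz * w) * d⁻¹ := by group
          _ = d * (w * zz) * d⁻¹ := by rw [h2]
          _ = (d * w) * zz * d⁻¹ := by group
          _ = (w * d) * zz * d⁻¹ := by rw [hd]
          _ = (w : MG) * (d * zz * d⁻¹) := by group)⟩
        (Subtype.ext (by
          show d * zz * d⁻¹ * (d * zz * d⁻¹) = 1
          calc d * zz * d⁻¹ * (d * zz * d⁻¹) = d * (zz * zz) * d⁻¹ := by group
            _ = 1 := by rw [zz_sq]; group)) (Subtype.ext hc)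
      rcases h1 with h1 | h1
      · exfalso
        have h2 : d * zz * d⁻¹ = 1 := congrArg Subtype.val h1
        rw [conj_eq_one_iff] at h2
        exact zz_ne h2
      · exact congrArg Subtype.val h1) hs (by rw [hc]; decide)
  have hNn := hN.nN
  -- `Q ≤ N`
  have hfree := H609.Inv.Seven.free_chart chart hQ hwo hfr
  have hzw : zz * (w : MG) = w * zz := (mem_centralizer_singleton_iff.1 w.2).symm
  have hQN : ∀ q (hq : q ∈ Q), (⟨q, hQ.le hq⟩ : ↥(centralizer ({(w : MG)} : Set MG))) ∈ N := by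
    intro q hq
    obtain ⟨j, hj⟩ := H609.Inv.Seven.inverts hQ hwo' zz_sq hzw hfree hq
    obtain ⟨n, hn, e, hez, hg⟩ := hN.sup ⟨q, hQ.le hq⟩
    -- `z q z⁻¹ q⁻¹ ∈ N`
    have h1 : zD w * (⟨q, hQ.le hq⟩ : ↥(centralizer ({(w : MG)} : Set MG))) * (zD w)⁻¹ *
        (⟨q, hQ.le hq⟩ : ↥(centralizer ({(w : MG)} : Set MG)))⁻¹ ∈ N := by
      rw [hg]
      have h2 : zD w * (n * e) * (zD w)⁻¹ * (n * e)⁻¹ = (zD w * n * (zD w)⁻¹) * n⁻¹ := by
        have h3 : zD w * e = e * zD w := hez.symm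
        calc zD w * (n * e) * (zD w)⁻¹ * (n * e)⁻¹ = zD w * n * (e * (zD w)⁻¹ * e⁻¹) * n⁻¹ := by group
          _ = zD w * n * ((zD w)⁻¹ * (zD w * e) * (zD w)⁻¹ * e⁻¹) * n⁻¹ := by group
          _ = zD w * n * ((zD w)⁻¹ * (e * zD w) * (zD w)⁻¹ * e⁻¹) * n⁻¹ := by rw [h3]
          _ = _ := by group
      rw [h2]
      exact N.mul_mem (hNn.conj_mem n hn _) (N.inv_mem hn)
    have h2 : (zD w * (⟨q, hQ.le hq⟩ : ↥(centralizer ({(w : MG)} : Set MG))) * (zD w)⁻¹ *
        (⟨q, hQ.le hq⟩ : ↥(centralizer ({(w : MG)} : Set MG)))⁻¹) =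
        (⟨q, hQ.le hq⟩ : ↥(centralizer ({(w : MG)} : Set MG)))⁻¹ * (self (w : MG)) ^ j *
          (⟨q, hQ.le hq⟩ : ↥(centralizer ({(w : MG)} : Set MG)))⁻¹ := by
      apply Subtype.ext
      change zz * q * zz⁻¹ * q⁻¹ = q⁻¹ * (w : MG) ^ j * q⁻¹
      rw [hj]
    rw [h2] at h1
    -- so `q ^ 2 ∈ N`
    have h3 : (⟨q, hQ.le hq⟩ : ↥(centralizer ({(w : MG)} : Set MG))) ^ 2 ∈ N := by
      have h4 := N.mul_mem (N.zpow_mem hN.xN j) (N.inv_mem h1)
      have hcj : Commute ((self (w : MG)) ^ j) (⟨q, hQ.le hq⟩ : ↥(centralizer ({(w : MG)} : Set MG))) :=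
        (show Commute (self (w : MG)) _ from (hN.xc _).symm).zpow_left j
      have h5 : self (w : MG) ^ j * ((⟨q, hQ.le hq⟩ : ↥(centralizer ({(w : MG)} : Set MG)))⁻¹ * (self (w : MG)) ^ j *
          (⟨q, hQ.le hq⟩ : ↥(centralizer ({(w : MG)} : Set MG)))⁻¹)⁻¹ =
          (⟨q, hQ.le hq⟩ : ↥(centralizer ({(w : MG)} : Set MG))) ^ 2 := by
        rw [pow_two]
        calc self (w : MG) ^ j * ((⟨q, hQ.le hq⟩ : ↥(centralizer ({(w : MG)} : Set MG)))⁻¹ * (self (w : MG)) ^ j *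
            (⟨q, hQ.le hq⟩ : ↥(centralizer ({(w : MG)} : Set MG)))⁻¹)⁻¹
            = (self (w : MG) ^ j * (⟨q, hQ.le hq⟩ : ↥(centralizer ({(w : MG)} : Set MG)))) * (self (w : MG) ^ j)⁻¹ *
              (⟨q, hQ.le hq⟩ : ↥(centralizer ({(w : MG)} : Set MG))) := by group
          _ = _ := by rw [hcj.eq]; group
      rwa [h5] at h4
    -- odd order
    obtain ⟨k, hk⟩ := hQ.pgroup ⟨q, hq⟩
    have hk1 : q ^ 7 ^ k = 1 := congrArg Subtype.val hk
    have hk' : (⟨q, hQ.le hq⟩ : ↥(centralizer ({(w : MG)} : Set MG))) ^ 7 ^ k = 1 := Subtype.ext hk1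
    obtain ⟨l, hl⟩ : Odd (7 ^ k) := Odd.pow (by decide)
    have h6 : (⟨q, hQ.le hq⟩ : ↥(centralizer ({(w : MG)} : Set MG))) =
        ((⟨q, hQ.le hq⟩ : ↥(centralizer ({(w : MG)} : Set MG))) ^ 2) ^ (-(l : ℤ)) := by
      rw [hl, pow_succ, pow_mul] at hk'
      rw [zpow_neg, zpow_natCast]
      exact eq_inv_of_mul_eq_one_right hk'
    rw [h6]
    exact N.zpow_mem h3 _
  -- the orders
  obtain ⟨m, hm, hcm⟩ := hN.card_N_mul hns
  rw [hc] at hcm
  have hmap : Nat.card ↥(N.map (centralizer ({(w : MG)} : Set MG)).subtype) = Nat.card ↥N :=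
    Subgroup.card_map_of_injective (Subgroup.subtype_injective _)
  -- elements central in `N` commute with `Q`
  have hcent : ∀ m : ↥(centralizer ({(w : MG)} : Set MG)), (∀ n ∈ N, n * m = m * n) →
      7 ^ 5 ∣ Nat.card ↥(centralizer ({(m : MG)} : Set MG)) := by
    intro m hm
    rw [← hQ.card]
    apply Subgroup.card_dvd_of_le
    intro q hq
    rw [mem_centralizer_singleton_iff]
    exact congrArg Subtype.val (hm _ (hQN q hq))
  have h3 : ¬ 3 ^ (7 + 1) ∣ Nat.card ↥N := by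
    intro hd
    obtain ⟨R, -, hRN, -, hRk, -, hRc⟩ := H58.MonFiveB.exists_R' hN (by norm_num) Nat.prime_three (by norm_num)
    have h1 := hRk 8 hd
    rw [← Subgroup.card_map_of_injective (K := R) (centralizer ({(w : MG)} : Set MG)).subtype_injective] at h1
    obtain ⟨y, hyR, hy, he⟩ := exists_three h1
    obtain ⟨y', hy', rfl⟩ := hyR
    exact three_seven hy he (hcent y' fun n hn => hRc n hn y' hy')
  have h5' : ¬ 5 ^ (5 + 1) ∣ Nat.card ↥N := by
    intro hd
    obtain ⟨R, -, hRN, -, hRk, -, hRc⟩ := H58.MonFiveB.exists_R' hN (by norm_num) Nat.prime_five (by norm_num)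
    have h1 := hRk 6 hd
    rw [← Subgroup.card_map_of_injective (K := R) (centralizer ({(w : MG)} : Set MG)).subtype_injective] at h1
    obtain ⟨y, hyR, hy, he⟩ := exists_five h1
    obtain ⟨y', hy', rfl⟩ := hyR
    exact five_seven hy he (hcent y' fun n hn => hRc n hn y' hy')
  have hle : Nat.card ↥N ∣ Nat.card ↥(centralizer ({(w : MG)} : Set MG)) := Subgroup.card_subgroup_dvd_card N
  have h2 : ¬ 2 ∣ Nat.card ↥N := by
    intro h1
    exact (Nat.not_even_iff_odd.2 hN.oN) (even_iff_two_dvd.2 h1)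
  have h7n : ¬ 7 ^ (5 + 1) ∣ Nat.card ↥N := by
    intro h1
    have h4 : 7 ^ 6 * 2520 ∣ Nat.card MG := by
      refine Dvd.dvd.trans ?_ (Subgroup.card_subgroup_dvd_card (centralizer ({(w : MG)} : Set MG)))
      rw [hcm]
      exact (mul_dvd_mul h1 (dvd_mul_right _ _))
    rw [card_M] at h4
    norm_num at h4
  have h11 : ¬ 11 ^ (1 + 1) ∣ Nat.card ↥N := fun h1 => not_121 hwo' (h1.trans hle)
  have hev : Ev (w : MG) := ⟨1, by rw [one_mul, inv_one, mul_one]; exact hzw⟩
  have h13 : ¬ 13 ∣ Nat.card ↥N := fun h1 => H465.SporB.Mon.seven_thirteen hwo' hev (h1.trans hle)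
  have hbig : ∀ {r}, Big r → ¬ r ∣ Nat.card ↥N := fun hr h1 =>
    H70.MSeven.seven_zero hwo hfr hr (h1.trans hle)
  have g : Nat.card ↥N ∣ 1 * (2 ^ 46 * (3 ^ 20 * (5 ^ 9 * (7 ^ 6 * (11 ^ 2 * (13 ^ 3 * (17 ^ 1 * (19 ^ 1 *
      (23 ^ 1 * (29 ^ 1 * (31 ^ 1 * (41 ^ 1 * (47 ^ 1 * (59 ^ 1 * (71 ^ 1 * 1))))))))))))))) :=
    hle.trans (dvd_card (w : MG))
  have g := step (j := 0) (by norm_num) g (no_pow h2)
  have g := step (j := 7) (by norm_num) g h3
  have g := step (j := 5) (by norm_num) g h5'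
  have g := step (j := 5) (by norm_num) g h7n
  have g := step (j := 1) (by norm_num) g h11
  have g := step (j := 0) (by norm_num) g (no_pow h13)
  have g := step (j := 0) (by norm_num) g (no_pow (hbig (r := 17) (by unfold Big; simp)))
  have g := step (j := 0) (by norm_num) g (no_pow (hbig (r := 19) (by unfold Big; simp)))
  have g := step (j := 0) (by norm_num) g (no_pow (hbig (r := 23) (by unfold Big; simp)))
  have g := step (j := 0) (by norm_num) g (no_pow (hbig (r := 29) (by unfold Big; simp)))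
  have g := step (j := 0) (by norm_num) g (no_pow (hbig (r := 31) (by unfold Big; simp)))
  have g := step (j := 0) (by norm_num) g (no_pow (hbig (r := 41) (by unfold Big; simp)))
  have g := step (j := 0) (by norm_num) g (no_pow (hbig (r := 47) (by unfold Big; simp)))
  have g := step (j := 0) (by norm_num) g (no_pow (hbig (r := 59) (by unfold Big; simp)))
  have g := step (j := 0) (by norm_num) g (no_pow (hbig (r := 71) (by unfold Big; simp)))
  rw [hcm]
  refine mul_dvd_mul (g.trans ?_) ?_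
  · norm_num
  · exact (mul_dvd_mul_left 2520 hm).trans (by norm_num)

/-- **order 7, commuting with a conjugate of `z`** -/
theorem card_even {x : MG} (hx : orderOf x = 7) (he : Ev x) :
    Nat.card ↥(centralizer ({x} : Set MG)) = 7 * 4030387200 ∨
      Nat.card ↥(centralizer ({x} : Set MG)) ∣ 3 ^ 7 * 5 ^ 5 * 7 ^ 5 * 11 * 5040 := by
  have hfin := finite
  have h7 : Nat.Prime 7 := by norm_num
  obtain ⟨x', hx', hc⟩ := exists_in hx he
  rw [← hc]
  have hxo : orderOf (x' : MG) = 7 := by rw [Subgroup.orderOf_coe, hx']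
  rcases CpAutMSeven.Ranks.hranks (pi x') (MFive.orderOf_pi chart h7 (by decide) hx') with h | h
  · right
    obtain ⟨w, hw, hfw, hcw⟩ := card_w
    obtain ⟨g, i, hg⟩ := BpSevenCo.Conj.wclass (pi x') (pi w) (MFive.orderOf_pi chart h7 (by decide) hx')
      (MFive.orderOf_pi chart h7 (by decide) hw) h hfw
    obtain ⟨c, hcc⟩ := MFive.exists_conj_of_conj chart h7 (by decide) (x := x') (y := w ^ i)
      (by rw [← hx', pow_orderOf_eq_one])
      (by rw [← pow_mul, mul_comm, pow_mul, ← hw, pow_orderOf_eq_one, one_pow]) (s := g) (by rw [hg, map_pow])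
    have h1 : (c : MG) * (x' : MG) * (c : MG)⁻¹ = (w : MG) ^ i := by
      have := congrArg Subtype.val hcc
      exact this
    have h2 : (w : MG) ^ i ≠ 1 := by
      intro h3
      rw [h3, conj_eq_one_iff] at h1
      rw [h1, orderOf_one] at hxo
      norm_num at hxo
    rw [← BpSpor.card_cent_of_conj h1, card_pow (by rw [Subgroup.orderOf_coe, hw]) h2]
    exact hcw
  · left
    obtain ⟨e⟩ := CpAutMSeven.ZeroComps.heSix x' hx' h
    rw [card_XX, hxo, Nat.card_congr e.toEquiv, Cfsg.Agent.S1695.result.2]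

theorem card_even_le {n : ℕ} (h : n = 7 * 4030387200 ∨ n ∣ 3 ^ 7 * 5 ^ 5 * 7 ^ 5 * 11 * 5040) : n ≤ 8 * 10 ^ 16 := by
  rcases h with rfl | h
  · norm_num
  · exact (Nat.le_of_dvd (by norm_num) h).trans (by norm_num)

end Cfsg.Agent.H537.OreM
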