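import Cfsg.Agent.H537.OreM.SevEven
import Cfsg.Agent.H715.Mon.Exact

/-!
# S2443, row M: no element of order 17 commutes with an element of order 7 with odd centralizer (helper537)
-/

set_option autoImplicit false
set_option maxRecDepth 100000

namespace Cfsg.Agent.H537.OreM

open Cfsg Cfsg.Agent.BpSpor.MBigModel Cfsg.Agent.H199.NSmMon
open Subgroup (centralizer zpowers mem_centralizer_singleton_iff)

/-- in a group of order not divisible by `p ^ 2` every element of order `p` is conjugate into `⟨y⟩` -/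
theorem conj_zpowers {G : Type*} [Group G] [Finite G] {p : ℕ} (hp : p.Prime) (h2 : ¬ p ^ 2 ∣ Nat.card G) {x y : G}
    (hx : orderOf x = p) (hy : orderOf y = p) : ∃ g : G, g * x * g⁻¹ ∈ zpowers y := by
  have : Fact p.Prime := ⟨hp⟩
  refine H533.T5.exists_conj_mem_of_index ?_ hx
  intro h
  apply h2
  rw [← (zpowers y).card_mul_index, Nat.card_zpowers, hy, pow_two]
  exact mul_dvd_mul_left _ h

theorem not_seventeen (h17 : ∀ u : MG, orderOf u = 17 → Nat.card ↥(centralizer ({u} : Set MG)) = 2856) {x : MG}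
    (hx : orderOf x = 7) (ho : ¬ 2 ∣ Nat.card ↥(centralizer ({x} : Set MG))) :
    ¬ 17 ∣ Nat.card ↥(centralizer ({x} : Set MG)) := by
  have hfin := finite
  intro hd
  have hf17 : Fact (Nat.Prime 17) := ⟨by norm_num⟩
  have hf7 : Fact (Nat.Prime 7) := ⟨by norm_num⟩
  obtain ⟨r, hr, hfr⟩ := BpRankZero.MRow.exists_six
  have hcr := H961.SevM.card_he hr hfr
  have hro : orderOf (r : MG) = 7 := by rw [Subgroup.orderOf_coe, hr]
  -- elements of order 17
  obtain ⟨⟨u, huc⟩, hu⟩ := exists_prime_orderOf_dvd_card' 17 hd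
  rw [Subgroup.orderOf_mk] at hu
  obtain ⟨⟨v, hvc⟩, hv⟩ := exists_prime_orderOf_dvd_card' (G := ↥(centralizer ({(r : MG)} : Set MG))) 17
    (by rw [hcr]; norm_num)
  rw [Subgroup.orderOf_mk] at hv
  rw [mem_centralizer_singleton_iff] at huc hvc
  obtain ⟨g, hg⟩ := conj_zpowers (p := 17) (by norm_num) (by rw [card_M]; norm_num) hu hv
  obtain ⟨i, hi⟩ := Subgroup.mem_zpowers_iff.1 hg
  -- `g x g⁻¹` and `r` commute with `g u g⁻¹`
  have h1 : (g * u * g⁻¹) * (g * x * g⁻¹) = (g * x * g⁻¹) * (g * u * g⁻¹) := by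
    calc (g * u * g⁻¹) * (g * x * g⁻¹) = g * (u * x) * g⁻¹ := by group
      _ = g * (x * u) * g⁻¹ := by rw [huc]
      _ = _ := by group
  have h2 : (g * u * g⁻¹) * (r : MG) = r * (g * u * g⁻¹) := by
    rw [← hi]
    exact ((show Commute v (r : MG) from hvc).zpow_left i).eq
  have hU : orderOf (g * u * g⁻¹) = 17 := by
    rw [← hu]
    exact MulEquiv.orderOf_eq (MulAut.conj g) u
  obtain ⟨U, hUe⟩ : ∃ U, U = g * u * g⁻¹ := ⟨_, rfl⟩
  rw [← hUe] at h1 h2 hU
  have hX : orderOf (g * x * g⁻¹) = 7 := by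
    rw [← hx]
    exact MulEquiv.orderOf_eq (MulAut.conj g) x
  have h49 : ¬ 7 ^ 2 ∣ Nat.card ↥(centralizer ({U} : Set MG)) := by
    rw [h17 U hU]
    norm_num
  obtain ⟨c, hc⟩ := conj_zpowers (p := 7) (by norm_num) h49
    (x := (⟨g * x * g⁻¹, mem_centralizer_singleton_iff.2 h1.symm⟩ : ↥(centralizer ({U} : Set MG))))
    (y := (⟨(r : MG), mem_centralizer_singleton_iff.2 h2.symm⟩ : ↥(centralizer ({U} : Set MG))))
    (by rw [Subgroup.orderOf_mk, hX]) (by rw [Subgroup.orderOf_mk, hro])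
  rw [← mem_powers_iff_mem_zpowers] at hc
  obtain ⟨j, hj⟩ := hc
  have hj' : (r : MG) ^ j = (c : MG) * (g * x * g⁻¹) * (c : MG)⁻¹ := congrArg Subtype.val hj
  have h3 : (c * g : MG) * x * (c * g : MG)⁻¹ = (r : MG) ^ j := by rw [hj']; group
  have h4 : (r : MG) ^ j ≠ 1 := by
    intro h5
    rw [h5, conj_eq_one_iff] at h3
    rw [h3, orderOf_one] at hx
    norm_num at hx
  apply ho
  rw [← BpSpor.card_cent_of_conj h3, card_pow hro h4, hcr]
  norm_num

end Cfsg.Agent.H537.OreM
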