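import Cfsg.Agent.H537.OreM.Even

/-!
# S2443, row M: `|C(x)|`, `x` of order 7, not even (helper537)
-/

set_option autoImplicit false
set_option maxRecDepth 100000

namespace Cfsg.Agent.H537.OreM

open Cfsg Cfsg.Agent.BpSpor.MBigModel Cfsg.Agent.H199.NSmMon
open Subgroup (centralizer zpowers mem_centralizer_singleton_iff)

/-- one prime of a divisor -/
theorem step {n A p k j m : ℕ} (hp : p.Prime) (hn : n ∣ A * (p ^ k * m)) (h : ¬ p ^ (j + 1) ∣ n) :
    n ∣ (A * p ^ j) * m := by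
  have hn0 : n ≠ 0 := by
    rintro rfl
    exact h (dvd_zero _)
  obtain ⟨a, n', hn', e⟩ := Nat.exists_eq_pow_mul_and_not_dvd hn0 p hp.ne_one
  have ha : a ≤ j := by
    by_contra hcon
    exact h ((pow_dvd_pow p (by omega)).trans (e ▸ dvd_mul_right _ _))
  have hc : Nat.Coprime n' (p ^ k) := ((Nat.Prime.coprime_iff_not_dvd hp).2 hn').symm.pow_right k
  have h1 : n' ∣ p ^ k * (A * m) := by
    have h2 : n' ∣ A * (p ^ k * m) := (e ▸ dvd_mul_left n' (p ^ a)).trans hn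
    rwa [show A * (p ^ k * m) = p ^ k * (A * m) by ring] at h2
  have h2 : n' ∣ A * m := hc.dvd_of_dvd_mul_left h1
  rw [e, show A * p ^ j * m = p ^ j * (A * m) by ring]
  exact mul_dvd_mul (pow_dvd_pow p ha) h2

/-- the order of `M` -/
theorem card_MG' : Nat.card MG = 1 * (2 ^ 46 * (3 ^ 20 * (5 ^ 9 * (7 ^ 6 * (11 ^ 2 * (13 ^ 3 * (17 ^ 1 * (19 ^ 1 *
    (23 ^ 1 * (29 ^ 1 * (31 ^ 1 * (41 ^ 1 * (47 ^ 1 * (59 ^ 1 * (71 ^ 1 * 1))))))))))))))) := by
  rw [card_M]; norm_num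

theorem dvd_card (x : MG) : Nat.card ↥(centralizer ({x} : Set MG)) ∣
    1 * (2 ^ 46 * (3 ^ 20 * (5 ^ 9 * (7 ^ 6 * (11 ^ 2 * (13 ^ 3 * (17 ^ 1 * (19 ^ 1 *
    (23 ^ 1 * (29 ^ 1 * (31 ^ 1 * (41 ^ 1 * (47 ^ 1 * (59 ^ 1 * (71 ^ 1 * 1))))))))))))))) := by
  rw [← card_MG']
  exact Subgroup.card_subgroup_dvd_card _

theorem no_pow {p : ℕ} {n : ℕ} (hn : ¬ p ∣ n) : ¬ p ^ (0 + 1) ∣ n := by
  rwa [zero_add, pow_one]

/-- **order 7, odd centralizer** -/
theorem card_odd {x : MG} (hx : orderOf x = 7) (ho : ¬ 2 ∣ Nat.card ↥(centralizer ({x} : Set MG)))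
    (h11 : ¬ 11 ^ 2 ∣ Nat.card ↥(centralizer ({x} : Set MG)))
    (h13 : ¬ 13 ∣ Nat.card ↥(centralizer ({x} : Set MG)))
    (h17 : ¬ 17 ∣ Nat.card ↥(centralizer ({x} : Set MG)))
    (h19 : ¬ 19 ∣ Nat.card ↥(centralizer ({x} : Set MG)))
    (h29 : ¬ 29 ∣ Nat.card ↥(centralizer ({x} : Set MG)))
    (h71 : ¬ 71 ∣ Nat.card ↥(centralizer ({x} : Set MG))) :
    Nat.card ↥(centralizer ({x} : Set MG)) ∣ 3 ^ 7 * 5 ^ 9 * 7 ^ 6 * 11 := by
  have hb : ∀ {r}, (r = 23 ∨ r = 31 ∨ r = 41 ∨ r = 47 ∨ r = 59) → ¬ r ∣ Nat.card ↥(centralizer ({x} : Set MG)) :=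
    fun h => H199.AbMon.seven_not_dvd h hx
  have g := dvd_card x
  have hM : ∀ {p k : ℕ}, ¬ p ^ (k + 1) ∣ Nat.card MG → ¬ p ^ (k + 1) ∣ Nat.card ↥(centralizer ({x} : Set MG)) :=
    fun h h1 => h (h1.trans (Subgroup.card_subgroup_dvd_card _))
  have g := step (j := 0) (by norm_num) g (no_pow ho)
  have g := step (j := 7) (by norm_num) g (not_three_seven hx ho)
  have g := step (j := 9) (by norm_num) g (hM (by rw [card_M]; norm_num))
  have g := step (j := 6) (by norm_num) g (hM (by rw [card_M]; norm_num))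
  have g := step (j := 1) (by norm_num) g h11
  have g := step (j := 0) (by norm_num) g (no_pow h13)
  have g := step (j := 0) (by norm_num) g (no_pow h17)
  have g := step (j := 0) (by norm_num) g (no_pow h19)
  have g := step (j := 0) (by norm_num) g (no_pow (hb (r := 23) (by simp)))
  have g := step (j := 0) (by norm_num) g (no_pow h29)
  have g := step (j := 0) (by norm_num) g (no_pow (hb (r := 31) (by simp)))
  have g := step (j := 0) (by norm_num) g (no_pow (hb (r := 41) (by simp)))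
  have g := step (j := 0) (by norm_num) g (no_pow (hb (r := 47) (by simp)))
  have g := step (j := 0) (by norm_num) g (no_pow (hb (r := 59) (by simp)))
  have g := step (j := 0) (by norm_num) g (no_pow h71)
  refine g.trans ?_
  norm_num

theorem card_odd_le {n : ℕ} (h : n ∣ 3 ^ 7 * 5 ^ 9 * 7 ^ 6 * 11) : n ≤ 8 * 10 ^ 16 :=
  (Nat.le_of_dvd (by norm_num) h).trans (by norm_num)

end Cfsg.Agent.H537.OreM
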